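import Cfsg.Agent.H577.GLB.Lab
import Cfsg.Agent.H577.GLB.StdCount
import Cfsg.Agent.H614.GLn.LabHom
import Cfsg.Agent.H501.GLn.Reg
import Cfsg.Agent.H112.GLB.Gb3
import Cfsg.Agent.H157.GLB.DA
import Cfsg.Agent.H809.GLB.TwistLin
import Cfsg.Agent.H624.Sl.Defs
import Cfsg.Agent.S0928

/-!
# S4536, D4-F3: the base case of the chain (helper142)

A label with `p'`-labels only and total weight zero: the irreducible character has defect zero and is fixed by the strong
stabiliser of the family.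
-/

set_option autoImplicit false
set_option linter.unusedSectionVars false
open Polynomial Cfsg
open scoped ComplexConjugate TensorProduct MatrixGroups

namespace Cfsg.Agent.H142.GLn

open Cfsg.Agent.H614 Cfsg.Agent.H614.GLn Cfsg.Agent.H577.GLB.Std Cfsg.Agent.H624.Sl Cfsg.Agent.Blocks.Local
open Cfsg.Agent.H577.GLB.Real (Om coP PhiF evA IsLab linH lin linH_apply PGen)

universe u v w

section std
variable {Q : ℤ} {M : ℕ} [NeZero M] {p : ℕ}

/-- a label alone in its family -/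
def Alone (Q : ℤ) (M : ℕ) [NeZero M] (p : ℕ) {m n : ℕ} (t : LabZ Q M m n) : Prop :=
  ∀ t' : LabZ Q M m n, SameFam Q M p t.t t'.t → t' = t

/-- the truncation of a label alone in its family is a multiple of it -/
theorem tauP_eq_smul (hQ : IsUnit (Q : ZMod M)) (hp : p.Prime) {m n : ℕ} (hn : n ≤ m) {t : LabZ Q M m n}
    (ht : Alone Q M p t) : ∃ c : ℂ, tauP Q M p (SchP Q M t.t) = c • SchP Q M t.t := by
  have h1 := H614.GLn.RSt.Hom_le_span hQ hn (H112.GLB.tauP_mem_hom p (H112.GLB.schP_mem_hom hQ t))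
  obtain ⟨a, ha⟩ := (Finsupp.mem_span_range_iff_exists_finsupp).1 h1
  refine ⟨a t, ?_⟩
  rw [← ha, Finsupp.sum]
  rw [Finset.sum_eq_single t]
  · intro t' ht' hne
    have h2 : form Q M (tauP Q M p (SchP Q M t.t)) (SchP Q M t'.t) = 0 :=
      H614.GLn.RSt.tau_fam hQ hp hn t t' fun h => hne (ht t' h)
    rw [← ha, Finsupp.sum, H614.GLn.RSt.form_sum_left, Finset.sum_eq_single t'] at h2
    · rw [H614.GLn.RSt.form_smul_left, H614.GLn.RSt.form_SchP hQ, if_pos rfl, mul_one] at h2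
      rw [h2, zero_smul]
    · intro b _ hb
      rw [H614.GLn.RSt.form_smul_left, H614.GLn.RSt.form_SchP hQ, if_neg (fun h => hb (LabZ.ext h)), mul_zero]
    · intro h
      exact absurd ht' h
  · intro h
    rw [Finsupp.notMem_support_iff.1 h, zero_smul]

/-- the shifted label -/
def shiftL {m n : ℕ} (t : LabZ Q M m n) {a : ZMod M} (ha : TorZ Q M 1 a) : LabZ Q M m n where
  t c := t.t (c - a)
  mono c := t.mono _
  orb c := by
    have h1 : (Q : ZMod M) * a = a := by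
      have h2 : ((Q : ZMod M) ^ 1 - 1) * a = 0 := ha
      rwa [pow_one, sub_mul, one_mul, sub_eq_zero] at h2
    have h2 : (Q : ZMod M) * c - a = (Q : ZMod M) * (c - a) := by rw [mul_sub, h1]
    show t.t ((Q : ZMod M) * c - a) = t.t (c - a)
    rw [h2, t.orb]
  sum := (Equiv.sum_comp (Equiv.subRight a) fun c => Cfsg.Agent.H577.GLB.Std.bsz (t.t c)).trans t.sum

end std

section gl
variable {F : Type u} [Field F] [Finite F] {K : Type u} [Field K] [Algebra F K] {θ : K →*₀ ℂ} {N M : ℕ} [NeZero M]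
  {p : ℕ} {𝔐 : Ideal AlgInt}

/-- The irreducible character vanishes on the `p`-singular elements. -/
theorem vanish_of_alone (hctx : Ctx F θ N M) (hp : p.Prime) (hpF : p ≠ ringChar F) {m n : ℕ} (hn : n ≤ N)
    (hm : n ≤ m) {χ : IrrCharacter (GL (Fin n) F)} {t : LabZ (Nat.card F) M m n} (ht : IsLab θ M m n χ t)
    (h0 : Alone (Nat.card F) M p t) {g : GL (Fin n) F} (hg : p ∣ orderOf g) : (χ : GL (Fin n) F → ℂ) g = 0 := by
  classical
  have hQ := H112.GLB.isUnit_card hctx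
  obtain ⟨s, hs⟩ := ht
  obtain ⟨c, hc⟩ := tauP_eq_smul hQ hp hm h0
  have h1 := H501.GLn.Om_tauP hctx hp hpF hn (H112.GLB.schP_mem_hom hQ t).1
  have h2 : Om (F := F) θ M n (c • SchP (Nat.card F) M t.t) = c • Om (F := F) θ M n (SchP (Nat.card F) M t.t) :=
    (H112.GLB.OmL F θ M n).map_smul c _
  rw [hc, h2, hs] at h1
  have hs0 : (((s : ℤ) : ℂ)) ≠ 0 := by exact_mod_cast s.ne_zero
  have h3 : ∀ x : GL (Fin n) F, c * (((s : ℤ) : ℂ) * (χ : GL (Fin n) F → ℂ) x) =
      if IsPRegular p x then ((s : ℤ) : ℂ) * (χ : GL (Fin n) F → ℂ) x else 0 := by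
    intro x
    have h4 := congrFun h1 x
    rw [pRegularPart] at h4
    exact h4
  have h5 := h3 1
  rw [if_pos (show IsPRegular p (1 : GL (Fin n) F) by
    rw [IsPRegular, orderOf_one]; exact fun h => hp.one_lt.ne' (Nat.dvd_one.1 h))] at h5
  have h6 : (χ : GL (Fin n) F → ℂ) 1 ≠ 0 := Cfsg.Agent.Blocks.Basic.irr_one_ne_zero χ.2
  have hc1 : c = 1 := by
    have h7 : (((s : ℤ) : ℂ) * (χ : GL (Fin n) F → ℂ) 1) ≠ 0 := mul_ne_zero hs0 h6
    exact mul_right_cancel₀ h7 (by rw [h5, one_mul])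
  have h7 := h3 g
  rw [if_neg (show ¬ IsPRegular p g from fun h => h hg), hc1, one_mul] at h7
  exact (mul_eq_zero.1 h7).resolve_left hs0

/-- **The base case** for a label alone in its family. -/
theorem base_of_alone (hctx : Ctx F θ N M) (hp : p.Prime) (hpF : p ≠ ringChar F) {m n : ℕ} (hn : n ≤ N)
    (hm : n ≤ m) {χ : IrrCharacter (GL (Fin n) F)} {t : LabZ (Nat.card F) M m n} (ht : IsLab θ M m n χ t)
    (h0 : Alone (Nat.card F) M p t) :
    (charDegree (χ : GL (Fin n) F → ℂ)).factorization p = (Nat.card (GL (Fin n) F)).factorization p ∧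
    ∀ a : ZMod M, SF (Nat.card F) M p t a → FixIrr (dch n (linH F θ M a)) (χ : GL (Fin n) F → ℂ) := by
  have hpf : Fact p.Prime := ⟨hp⟩
  have hQ := H112.GLB.isUnit_card hctx
  refine ⟨Cfsg.Agent.S0928.result p χ fun g hg => vanish_of_alone hctx hp hpF hn hm ht h0 (by rw [hg]), ?_⟩
  intro a ha g hg
  obtain ⟨ha1, ha2, ha3⟩ := ha.1
  have h1 : shiftL t ha1 = t := h0 _ ha3
  have h2 : (fun c => t.t (c - a)) = t.t := congrArg LabZ.t h1
  have h3 := H157.GLB.twist_SchP hQ a ha1 t.t t.orb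
  rw [h2] at h3
  obtain ⟨s, hs⟩ := ht
  have h4 := Cfsg.Agent.H577.GLB.Real.Om_twist hctx hn a ha1 (H112.GLB.schP_mem_hom hQ t) g
  rw [h3, hs] at h4
  have hs0 : (((s : ℤ) : ℂ)) ≠ 0 := by exact_mod_cast s.ne_zero
  have h5 : (((s : ℤ) : ℂ) * (χ : GL (Fin n) F → ℂ) g) ≠ 0 := mul_ne_zero hs0 hg
  have h6 : lin F θ M a (Matrix.GeneralLinearGroup.det g) = 1 := by
    have h7 : (1 : ℂ) * (((s : ℤ) : ℂ) * (χ : GL (Fin n) F → ℂ) g) =
        lin F θ M a (Matrix.GeneralLinearGroup.det g) * (((s : ℤ) : ℂ) * (χ : GL (Fin n) F → ℂ) g) := by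
      rw [one_mul]
      exact h4
    exact (mul_right_cancel₀ h5 h7).symm
  apply Units.ext
  rw [Units.val_one, ← h6]
  exact linH_apply θ M a _

end gl

end Cfsg.Agent.H142.GLn
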